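import Mathlib

set_option autoImplicit false
universe u
open TensorProduct

namespace Groth.Agent.Lib.Helper73.FamFlatNL

/-- Localization of a localization, for modules: if `j : X → X''` is the localization at `S ⊆ R`
(with `R'' = S⁻¹R`) and `k : X'' → Z` is the localization at the complement of a prime `P''` of
`R''`, then `k ∘ j` is the localization at the complement of the contraction of `P''`. -/
theorem isLocalizedModule_comp_atPrime
    {R R'' : Type u} [CommRing R] [CommRing R''] [Algebra R R''] (S : Submonoid R)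
    [IsLocalization S R'']
    {X X'' Z : Type u} [AddCommMonoid X] [AddCommMonoid X''] [AddCommMonoid Z]
    [Module R X] [Module R X''] [Module R'' X''] [IsScalarTower R R'' X'']
    [Module R Z] [Module R'' Z] [IsScalarTower R R'' Z]
    (j : X →ₗ[R] X'') [IsLocalizedModule S j]
    (P'' : Ideal R'') [P''.IsPrime]
    (k : X'' →ₗ[R''] Z) [IsLocalizedModule P''.primeCompl k] :
    IsLocalizedModule (P''.comap (algebraMap R R'')).primeCompl
      ((k.restrictScalars R) ∘ₗ j) := by
  have hS : ∀ s : S, algebraMap R R'' s ∈ P''.primeCompl := by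
    intro s hs
    have hu : IsUnit (algebraMap R R'' s) := IsLocalization.map_units R'' s
    exact (Ideal.IsPrime.ne_top inferInstance) (Ideal.eq_top_of_isUnit_mem _ hs hu)
  refine ⟨?_, ?_, ?_⟩
  · -- units
    intro t
    have ht : algebraMap R R'' t ∈ P''.primeCompl := t.2
    have hu := IsLocalizedModule.map_units k ⟨algebraMap R R'' t, ht⟩
    rw [Module.End.isUnit_iff] at hu ⊢
    convert hu using 1
    ext z
    change (t : R) • z = algebraMap R R'' (t : R) • z
    rw [algebraMap_smul]
  · -- surjectivity
    intro z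
    obtain ⟨⟨x'', u''⟩, hx''⟩ := IsLocalizedModule.surj P''.primeCompl k z
    obtain ⟨⟨x, s⟩, hx⟩ := IsLocalizedModule.surj S j x''
    obtain ⟨⟨r, s'⟩, hr⟩ := IsLocalization.surj S (u'' : R'')
    simp only at hx'' hx hr
    have hrP : r ∈ (P''.comap (algebraMap R R'')).primeCompl := by
      intro hmem
      have h1 : algebraMap R R'' r ∈ P'' := hmem
      rw [← hr] at h1
      rcases Ideal.IsPrime.mem_or_mem inferInstance h1 with h2 | h2
      · exact u''.2 h2
      · exact hS s' h2
    have hsP : (s : R) ∈ (P''.comap (algebraMap R R'')).primeCompl := fun hmem => hS s hmem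
    refine ⟨⟨(s' : R) • x, ⟨r * s, Submonoid.mul_mem _ hrP hsP⟩⟩, ?_⟩
    change (r * (s : R)) • z = k (j ((s' : R) • x))
    rw [map_smul, ← hx, ← algebraMap_smul R'' (r * (s : R)) z, map_mul, ← hr]
    rw [Submonoid.smul_def, ← algebraMap_smul R'' (s : R) x'', ← algebraMap_smul R'' (s' : R),
      map_smul, map_smul, ← hx'', Submonoid.smul_def, smul_smul, smul_smul]
    congr 1
    ring
  · -- kernel
    intro x1 x2 h
    have h' : k (j x1) = k (j x2) := h
    obtain ⟨u'', hu''⟩ := IsLocalizedModule.exists_of_eq (S := P''.primeCompl) (f := k) h'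
    obtain ⟨⟨r, s'⟩, hr⟩ := IsLocalization.surj S (u'' : R'')
    simp only at hr
    have hrP : r ∈ (P''.comap (algebraMap R R'')).primeCompl := by
      intro hmem
      have h1 : algebraMap R R'' r ∈ P'' := hmem
      rw [← hr] at h1
      rcases Ideal.IsPrime.mem_or_mem inferInstance h1 with h2 | h2
      · exact u''.2 h2
      · exact hS s' h2
    have h3 : j (r • x1) = j (r • x2) := by
      rw [map_smul, map_smul, ← algebraMap_smul R'' r (j x1), ← algebraMap_smul R'' r (j x2),
        ← hr, mul_comm, mul_smul, mul_smul]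
      have hu3 : (u'' : R'') • j x1 = (u'' : R'') • j x2 := hu''
      rw [hu3]
    obtain ⟨s, hs⟩ := IsLocalizedModule.exists_of_eq (S := S) (f := j) h3
    have hsP : (s : R) ∈ (P''.comap (algebraMap R R'')).primeCompl := fun hmem => hS s hmem
    refine ⟨⟨s * r, Submonoid.mul_mem _ hsP hrP⟩, ?_⟩
    change ((s : R) * r) • x1 = ((s : R) * r) • x2
    rw [mul_smul, mul_smul]
    exact hs

end Groth.Agent.Lib.Helper73.FamFlatNL
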