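import Groth.Agent.Lib.Helper73.FamFlatNL.Transfer
import Groth.Agent.Lib.Helper55.FamFlat.RL

set_option autoImplicit false
set_option linter.style.haveILetI false
universe u
open TensorProduct

namespace Groth.Agent.Lib.Helper73.FamFlatNL

section Single

variable {A A' B' B : Type u} [CommRing A] [CommRing A'] [CommRing B'] [CommRing B]
  [Algebra A A'] [Algebra A B] [Algebra A B'] [Algebra A' B'] [Algebra B B']
  [IsScalarTower A A' B'] [IsScalarTower A B B']
  (𝔯 : Ideal A') [𝔯.IsPrime]

instance isScalarTower_loc :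
    IsScalarTower A (Localization.AtPrime 𝔯)
      (Localization (Algebra.algebraMapSubmonoid B' 𝔯.primeCompl)) := by
  refine IsScalarTower.of_algebraMap_eq fun a => ?_
  rw [IsScalarTower.algebraMap_apply A A' (Localization (Algebra.algebraMapSubmonoid B' 𝔯.primeCompl)),
    IsScalarTower.algebraMap_apply A A' (Localization.AtPrime 𝔯),
    ← IsScalarTower.algebraMap_apply A' (Localization.AtPrime 𝔯)
      (Localization (Algebra.algebraMapSubmonoid B' 𝔯.primeCompl))]

theorem isPushout_loc [Algebra.IsPushout A A' B B'] :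
    Algebra.IsPushout A (Localization.AtPrime 𝔯) B
      (Localization (Algebra.algebraMapSubmonoid B' 𝔯.primeCompl)) := by
  have h1 : Algebra.IsPushout A' B' (Localization.AtPrime 𝔯)
      (Localization (Algebra.algebraMapSubmonoid B' 𝔯.primeCompl)) :=
    Algebra.isPushout_of_isLocalization 𝔯.primeCompl (Localization.AtPrime 𝔯) B'
      (Localization (Algebra.algebraMapSubmonoid B' 𝔯.primeCompl))
  exact (Algebra.IsPushout.comp_iff A A' (T := Localization.AtPrime 𝔯) B B'
    (T' := Localization (Algebra.algebraMapSubmonoid B' 𝔯.primeCompl))).mpr h1.symm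

end Single

/-- Non-local version of the ring-level core: the base rings `A' i` need not be local, and the
flatness hypothesis is required at all primes of `B' i` above `𝔭`. -/
theorem flat_localized_of_family_nl
    {A : Type u} [CommRing A] [IsLocalRing A] (hA : IsNilpotent (IsLocalRing.maximalIdeal A))
    {B : Type u} [CommRing B] [Algebra A B] [IsNoetherianRing B]
    {M : Type u} [AddCommGroup M] [Module B M] [Module A M] [IsScalarTower A B M] [Module.Finite B M]
    (𝔭 : Ideal B) [𝔭.IsPrime]
    {ι : Type u} (A' : ι → Type u) [∀ i, CommRing (A' i)] [∀ i, Algebra A (A' i)]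
    (hu : ∀ a : A, (∀ i, algebraMap A (A' i) a = 0) → a = 0)
    (B' : ι → Type u) [∀ i, CommRing (B' i)] [∀ i, Algebra A (B' i)] [∀ i, Algebra (A' i) (B' i)]
    [∀ i, Algebra B (B' i)] [∀ i, IsScalarTower A (A' i) (B' i)] [∀ i, IsScalarTower A B (B' i)]
    [∀ i, Algebra.IsPushout A (A' i) B (B' i)]
    (hflat : ∀ (i : ι) (𝔮 : Ideal (B' i)) [𝔮.IsPrime],
        𝔮.comap (algebraMap B (B' i)) = 𝔭 →
        Module.Flat (A' i) (LocalizedModule 𝔮.primeCompl (B' i ⊗[B] M))) :
    Module.Flat A (LocalizedModule 𝔭.primeCompl M) := by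
  haveI : ∀ p : (Σ i, PrimeSpectrum (A' i)), Algebra.IsPushout A (Localization.AtPrime p.2.asIdeal) B
      (Localization (Algebra.algebraMapSubmonoid (B' p.1) p.2.asIdeal.primeCompl)) :=
    fun p => isPushout_loc p.2.asIdeal
  refine Groth.Agent.Lib.Helper55.FamFlat.flat_localized_of_family hA 𝔭
    (ι := Σ i, PrimeSpectrum (A' i))
    (fun p => Localization.AtPrime p.2.asIdeal) ?_
    (fun p => Localization (Algebra.algebraMapSubmonoid (B' p.1) p.2.asIdeal.primeCompl)) ?_
  · intro a ha
    apply hu
    intro i
    -- an element of `A' i` vanishing in all localizations at primes is zero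
    by_contra hne
    obtain ⟨𝔪, h𝔪, hle⟩ := Ideal.exists_le_maximal (Ideal.span {algebraMap A (A' i) a}).annihilator
      (by
        intro htop
        have h1 : (1 : A' i) ∈ (Ideal.span {algebraMap A (A' i) a}).annihilator := by
          rw [htop]; trivial
        rw [Submodule.mem_annihilator_span_singleton] at h1
        exact hne (by simpa using h1))
    haveI := h𝔪.isPrime
    have h0 := ha ⟨i, ⟨𝔪, h𝔪.isPrime⟩⟩
    have h0' : algebraMap (A' i) (Localization.AtPrime 𝔪) (algebraMap A (A' i) a) = 0 := by
      rw [← IsScalarTower.algebraMap_apply]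
      exact h0
    rw [IsLocalization.map_eq_zero_iff 𝔪.primeCompl] at h0'
    obtain ⟨t, ht⟩ := h0'
    have : (t : A' i) ∈ (Ideal.span {algebraMap A (A' i) a}).annihilator := by
      rw [Submodule.mem_annihilator_span_singleton]
      exact ht
    exact t.2 (hle this)
  · intro p 𝔮'' h𝔮'' h1 h2
    refine flat_localizedModule_localization (A' := A' p.1) (B' := B' p.1) (B := B) (M := M)
      p.2.asIdeal 𝔮'' ?_
    apply hflat p.1
    rw [Ideal.comap_comap, ← h1]
    congr 1

end Groth.Agent.Lib.Helper73.FamFlatNL
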