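import Groth.Prelude.Def_FlatMod2
import Groth.Prelude.Def_Coh
import Groth.Agent.Lib.Helper55.FL.ModSchemeOpen
import Groth.Agent.Lib.Lead.PullbackAff6
import Groth.Agent.Lib.Lead.CohAff4
import Groth.Agent.Lib.Helper55.FamFlat.Bridge
import Groth.Agent.Lib.Helper73.FamFlatNL.Core

set_option autoImplicit false
set_option linter.style.haveILetI false
set_option linter.unusedSectionVars false
universe u

open AlgebraicGeometry CategoryTheory Limits TopologicalSpace Opposite TensorProduct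

namespace Groth.Agent.Lib.Helper73.FamFlatNL

open Groth.Agent.Lib.Lead.QCohAff Groth.Agent.Lib.Lead.CohAff Groth.Agent.Lib.Helper55.FL
  Groth.Agent.Lib.Lead.PullbackAff Groth.Agent.Lib.Helper55.FamFlat

/-- a global section vanishing on all affine opens vanishes -/
theorem eq_zero_of_forall_affine {Y : Scheme.{u}} (s : Γ(Y, ⊤))
    (h : ∀ V : Y.affineOpens, (Y.presheaf.map (homOfLE (le_top : V.1 ≤ ⊤)).op).hom s = 0) :
    s = 0 := by
  refine TopCat.Sheaf.eq_of_locally_eq' Y.sheaf (fun V : Y.affineOpens => V.1) ⊤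
    (fun V => homOfLE le_top) ?_ s 0 ?_
  · intro y _
    obtain ⟨V, hV, hyV, -⟩ := exists_isAffineOpen_mem_and_subset (U := (⊤ : Y.Opens)) (x := y) trivial
    exact Opens.mem_iSup.mpr ⟨⟨V, hV⟩, hyV⟩
  · intro V
    rw [map_zero]
    exact h V

open CategoryTheory.Limits in
theorem isFlatOverAt_of_scheme_family {A : Type u} [CommRing A]
    [IsArtinianRing A] [IsLocalRing A] {X : Scheme.{u}} (f : X ⟶ Spec (CommRingCat.of A))
    [LocallyOfFiniteType f] (F : X.Modules) (hF : Coh.IsCoh F) (x : X)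
    {ι : Type u} (Y : ι → Scheme.{u}) (g : ∀ i, Y i ⟶ Spec (CommRingCat.of A))
    (hg : ∀ a : A, (∀ i, (g i).appTop ((Scheme.ΓSpecIso (CommRingCat.of A)).inv a) = 0) → a = 0)
    (hflat : ∀ (i : ι) (x' : ↥(pullback f (g i))), pullback.fst f (g i) x' = x →
      FlatMod.IsFlatOverAt (pullback.snd f (g i))
        ((Scheme.Modules.pullback (pullback.fst f (g i))).obj F) x') :
    FlatMod.IsFlatOverAt f F x := by
  haveI : F.IsQuasicoherent := hF.1
  have hFT := hF.2
  haveI : IsLocallyNoetherian X := LocallyOfFiniteType.isLocallyNoetherian f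
  obtain ⟨U, hU, hxU, -⟩ := exists_isAffineOpen_mem_and_subset (U := (⊤ : X.Opens)) (x := x) trivial
  have hV : IsAffineOpen (⊤ : (Spec (CommRingCat.of A)).Opens) := isAffineOpen_top _
  have hUV : U ≤ f ⁻¹ᵁ ⊤ := fun _ _ => trivial
  rw [isFlatOverAt_iff_flat_localizedModule f F hU hV hUV x hxU]
  -- per-index geometric data
  let W : ∀ p : (Σ i : ι, (Y i).affineOpens), (pullback f (g p.1)).Opens :=
    fun p => (pullback.fst f (g p.1)) ⁻¹ᵁ U ⊓ (pullback.snd f (g p.1)) ⁻¹ᵁ p.2.1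
  have hc : ∀ i, IsPullback (pullback.fst f (g i)) (pullback.snd f (g i)) f (g i) :=
    fun i => IsPullback.of_hasPullback _ _
  have e' : ∀ p : (Σ i : ι, (Y i).affineOpens), p.2.1 ≤ (g p.1) ⁻¹ᵁ ⊤ :=
    fun p _ _ => trivial
  have hW : ∀ p, IsAffineOpen (W p) := fun p => by
    have : IsAffine (⊤ : (Spec (CommRingCat.of A)).Opens) := hV
    have : IsAffine p.2.1 := p.2.2
    have : IsAffine U := hU
    exact .of_isIso (Scheme.Hom.isPullback_resLE (hc p.1) (e' p) hUV rfl).isoPullback.hom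
  have hpush := fun p : (Σ i : ι, (Y i).affineOpens) =>
    (isIso_pushoutSection_iff (hc p.1) (e' p) hUV rfl).mp
    (isIso_pushoutSection_of_isAffineOpen (hc p.1) (e' p) hUV rfl hV p.2.2 hU)
  -- ring-level instances
  haveI locA : IsLocalRing Γ(Spec (CommRingCat.of A), ⊤) := isLocalRing_Γtop A
  letI algAB : Algebra Γ(Spec (CommRingCat.of A), ⊤) Γ(X, U) := (f.appLE ⊤ U hUV).hom.toAlgebra
  letI modAM : Module Γ(Spec (CommRingCat.of A), ⊤) Γ(F, U) :=
    Module.compHom Γ(F, U) (f.appLE ⊤ U hUV).hom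
  haveI towM : IsScalarTower Γ(Spec (CommRingCat.of A), ⊤) Γ(X, U) Γ(F, U) :=
    IsScalarTower.of_algebraMap_smul fun _ _ => rfl
  haveI noeB : IsNoetherianRing Γ(X, U) := IsLocallyNoetherian.component_noetherian ⟨U, hU⟩
  haveI finM : Module.Finite Γ(X, U) Γ(F, U) := finite_sections_of_isFiniteType F hFT hU
  letI algAA' : ∀ p : (Σ i : ι, (Y i).affineOpens),
      Algebra Γ(Spec (CommRingCat.of A), ⊤) Γ(Y p.1, p.2.1) :=
    fun p => ((g p.1).appLE ⊤ p.2.1 (e' p)).hom.toAlgebra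
  letI algBB' : ∀ p : (Σ i : ι, (Y i).affineOpens), Algebra Γ(X, U) Γ(pullback f (g p.1), W p) :=
    fun p => ((pullback.fst f (g p.1)).appLE U (W p) inf_le_left).hom.toAlgebra
  letI algA'B' : ∀ p : (Σ i : ι, (Y i).affineOpens),
      Algebra Γ(Y p.1, p.2.1) Γ(pullback f (g p.1), W p) :=
    fun p => ((pullback.snd f (g p.1)).appLE p.2.1 (W p) inf_le_right).hom.toAlgebra
  letI algAB' : ∀ p : (Σ i : ι, (Y i).affineOpens),
      Algebra Γ(Spec (CommRingCat.of A), ⊤) Γ(pullback f (g p.1), W p) :=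
    fun p => ((algebraMap Γ(X, U) Γ(pullback f (g p.1), W p)).comp
      (algebraMap Γ(Spec (CommRingCat.of A), ⊤) Γ(X, U))).toAlgebra
  haveI t1 : ∀ p : (Σ i : ι, (Y i).affineOpens),
      IsScalarTower Γ(Spec (CommRingCat.of A), ⊤) Γ(X, U) Γ(pullback f (g p.1), W p) :=
    fun p => IsScalarTower.of_algebraMap_eq' rfl
  haveI t2 : ∀ p : (Σ i : ι, (Y i).affineOpens), IsScalarTower Γ(Spec (CommRingCat.of A), ⊤)
      Γ(Y p.1, p.2.1) Γ(pullback f (g p.1), W p) :=
    fun p => IsScalarTower.of_algebraMap_eq' (by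
      have := congrArg CommRingCat.Hom.hom (hpush p).w
      exact this)
  haveI hP : ∀ p : (Σ i : ι, (Y i).affineOpens), Algebra.IsPushout Γ(Spec (CommRingCat.of A), ⊤)
      Γ(Y p.1, p.2.1) Γ(X, U) Γ(pullback f (g p.1), W p) := fun p => by
    apply Algebra.IsPushout.symm
    exact CommRingCat.isPushout_iff_isPushout.mp (hpush p)
  refine flat_localized_of_family_nl (A := Γ(Spec (CommRingCat.of A), ⊤))
    (isNilpotent_maximalIdeal_Γtop A) (B := Γ(X, U)) (M := Γ(F, U))
    (hU.primeIdealOf ⟨x, hxU⟩).asIdeal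
    (ι := Σ i : ι, (Y i).affineOpens)
    (fun p => Γ(Y p.1, p.2.1)) ?_
    (fun p => Γ(pullback f (g p.1), W p)) ?_
  · intro a ha
    have h0 : (Scheme.ΓSpecIso (CommRingCat.of A)).hom a = 0 := by
      apply hg
      intro i
      have haa : (Scheme.ΓSpecIso (CommRingCat.of A)).inv
          ((Scheme.ΓSpecIso (CommRingCat.of A)).hom a) = a :=
        congrArg (fun φ => φ.hom a) (Scheme.ΓSpecIso (CommRingCat.of A)).hom_inv_id
      rw [haa]
      apply eq_zero_of_forall_affine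
      intro V
      have h1 : ((g i).appLE ⊤ V.1 (e' ⟨i, V⟩)).hom a = 0 := ha ⟨i, V⟩
      rw [Scheme.Hom.appLE] at h1
      exact h1
    have h4 := congrArg (Scheme.ΓSpecIso (CommRingCat.of A)).inv.hom h0
    rw [map_zero] at h4
    rw [← h4]
    exact (congrArg (fun φ => φ.hom a) (Scheme.ΓSpecIso (CommRingCat.of A)).hom_inv_id).symm
  · intro p 𝔮 h𝔮 hB
    obtain ⟨x', hx'W, hprime⟩ := exists_point_of_prime (hW p) ⟨𝔮, h𝔮⟩
    have hq : ((hW p).primeIdealOf ⟨x', hx'W⟩).asIdeal = 𝔮 :=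
      congrArg PrimeSpectrum.asIdeal hprime
    have hfst : pullback.fst f (g p.1) x' = x := by
      have hmem : pullback.fst f (g p.1) x' ∈ U := hx'W.1
      apply primeIdealOf_injective hU hmem hxU
      rw [← IsAffineOpen.comap_primeIdealOf_appLE U hU (W p) (hW p) inf_le_left hx'W]
      apply PrimeSpectrum.ext
      change Ideal.comap _ ((hW p).primeIdealOf ⟨x', hx'W⟩).asIdeal = _
      rw [hq]
      exact hB
    have key := hflat p.1 x' hfst
    haveI qcG : ((Scheme.Modules.pullback (pullback.fst f (g p.1))).obj F).IsQuasicoherent :=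
      inferInstance
    rw [isFlatOverAt_iff_flat_localizedModule (pullback.snd f (g p.1)) _ (hW p) p.2.2
      inf_le_right x' hx'W] at key
    subst hq
    letI modA'G : Module Γ(Y p.1, p.2.1)
        Γ((Scheme.Modules.pullback (pullback.fst f (g p.1))).obj F, W p) :=
      Module.compHom _ ((pullback.snd f (g p.1)).appLE p.2.1 (W p) inf_le_right).hom
    haveI towG : IsScalarTower Γ(Y p.1, p.2.1) Γ(pullback f (g p.1), W p)
        Γ((Scheme.Modules.pullback (pullback.fst f (g p.1))).obj F, W p) :=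
      IsScalarTower.of_algebraMap_smul fun _ _ => rfl
    let e0 := sectionsPullbackEquiv (pullback.fst f (g p.1)) F (hW p) hU inf_le_left
    let f1 := LocalizedModule.mkLinearMap
      ((hW p).primeIdealOf ⟨x', hx'W⟩).asIdeal.primeCompl
      (Γ(pullback f (g p.1), W p) ⊗[Γ(X, U)] Γ(F, U))
    haveI : IsLocalizedModule ((hW p).primeIdealOf ⟨x', hx'W⟩).asIdeal.primeCompl
        (f1 ∘ₗ e0.toLinearMap) := IsLocalizedModule.of_linearEquiv_right _ _ e0
    let e1 := IsLocalizedModule.linearEquiv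
      ((hW p).primeIdealOf ⟨x', hx'W⟩).asIdeal.primeCompl
      (LocalizedModule.mkLinearMap ((hW p).primeIdealOf ⟨x', hx'W⟩).asIdeal.primeCompl
        Γ((Scheme.Modules.pullback (pullback.fst f (g p.1))).obj F, W p))
      (f1 ∘ₗ e0.toLinearMap)
    exact Module.Flat.of_linearEquiv (e1.symm.restrictScalars Γ(Y p.1, p.2.1))

end Groth.Agent.Lib.Helper73.FamFlatNL
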