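import Groth.Agent.Lib.Helper73.FamFlatNL.LocLoc

set_option autoImplicit false
universe u
open TensorProduct

namespace Groth.Agent.Lib.Helper73.FamFlatNL

/-- Flatness of the localized pushout module passes to the localization of the base at a prime. -/
theorem flat_localizedModule_localization
    {A' B' B M : Type u} [CommRing A'] [CommRing B'] [CommRing B] [AddCommGroup M] [Module B M]
    [Algebra A' B'] [Algebra B B']
    (𝔯 : Ideal A') [𝔯.IsPrime]
    {A'' B'' : Type u} [CommRing A''] [CommRing B''] [Algebra A' A'']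
    [IsLocalization.AtPrime A'' 𝔯]
    [Algebra B' B''] [IsLocalization (Algebra.algebraMapSubmonoid B' 𝔯.primeCompl) B'']
    [Algebra A'' B''] [Algebra A' B''] [IsScalarTower A' A'' B''] [IsScalarTower A' B' B'']
    [Algebra B B''] [IsScalarTower B B' B'']
    (𝔮'' : Ideal B'') [𝔮''.IsPrime]
    (h : Module.Flat A'
      (LocalizedModule (𝔮''.comap (algebraMap B' B'')).primeCompl (B' ⊗[B] M))) :
    Module.Flat A'' (LocalizedModule 𝔮''.primeCompl (B'' ⊗[B] M)) := by
  let j : B' ⊗[B] M →ₗ[B'] B'' ⊗[B] M :=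
    TensorProduct.AlgebraTensorModule.map (Algebra.linearMap B' B'') (LinearMap.id : M →ₗ[B] M)
  have hcomp : (j.restrictScalars B) ∘ₗ (TensorProduct.mk B B' M 1) = TensorProduct.mk B B'' M 1 := by
    ext m
    simp [j]
  have hbc : IsBaseChange B'' j := by
    refine IsBaseChange.of_comp (TensorProduct.isBaseChange B M B') (h := j) ?_
    rw [hcomp]
    exact TensorProduct.isBaseChange B M B''
  haveI hj : IsLocalizedModule (Algebra.algebraMapSubmonoid B' 𝔯.primeCompl) j :=
    (isLocalizedModule_iff_isBaseChange (Algebra.algebraMapSubmonoid B' 𝔯.primeCompl) B'' j).mpr hbc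
  let k := LocalizedModule.mkLinearMap 𝔮''.primeCompl (B'' ⊗[B] M)
  haveI hkj := isLocalizedModule_comp_atPrime (Algebra.algebraMapSubmonoid B' 𝔯.primeCompl) j 𝔮'' k
  let e := IsLocalizedModule.linearEquiv (𝔮''.comap (algebraMap B' B'')).primeCompl
    (LocalizedModule.mkLinearMap (𝔮''.comap (algebraMap B' B'')).primeCompl (B' ⊗[B] M))
    ((k.restrictScalars B') ∘ₗ j)
  haveI h1 : Module.Flat A' (LocalizedModule 𝔮''.primeCompl (B'' ⊗[B] M)) :=
    Module.Flat.of_linearEquiv (e.symm.restrictScalars A')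
  exact (Module.flat_iff_of_isLocalization A'' 𝔯.primeCompl
    (LocalizedModule 𝔮''.primeCompl (B'' ⊗[B] M))).mpr h1

end Groth.Agent.Lib.Helper73.FamFlatNL
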